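import Mathlib.RingTheory.AdicCompletion.AsTensorProduct
import Mathlib.RingTheory.AdicCompletion.Noetherian
import Mathlib.Algebra.Polynomial.Taylor
import Mathlib.Algebra.Polynomial.AlgebraMap

/-! # Newton's method in a complete algebra -/

set_option autoImplicit false

universe u

open Polynomial

namespace Groth.L05.Krasner

/-- A finite module over a complete Noetherian ring is complete. -/
theorem isAdicComplete_of_finite {A : Type u} [CommRing A] [IsNoetherianRing A] (I : Ideal A) [IsAdicComplete I A]
    (M : Type u) [AddCommGroup M] [Module A M] [Module.Finite A M] : IsAdicComplete I M where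
  toIsHausdorff := IsHausdorff.of_le_jacobson I M (IsAdicComplete.le_jacobson_bot I)
  toIsPrecomplete := by
    rw [← AdicCompletion.of_surjective_iff]
    intro x
    obtain ⟨t, rfl⟩ := AdicCompletion.ofTensorProduct_surjective_of_finite I M x
    induction t using TensorProduct.induction_on with
    | zero => exact ⟨0, by rw [map_zero, map_zero]⟩
    | tmul r m =>
      obtain ⟨a, rfl⟩ := AdicCompletion.of_surjective I A r
      refine ⟨a • m, ?_⟩
      rw [AdicCompletion.ofTensorProduct_tmul, map_smul]
      ext n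
      simp [AdicCompletion.smul_eval]
      rfl
    | add s t hs ht =>
      obtain ⟨u, hu⟩ := hs
      obtain ⟨v, hv⟩ := ht
      exact ⟨u + v, by rw [map_add, map_add, hu, hv]⟩

variable {R T : Type u} [CommRing R] [CommRing T] [Algebra R T] {I : Ideal R} [IsAdicComplete I T]
  {π : R}

/-- A contraction of a complete algebra has a fixed point. -/
theorem exists_fixed (hπ : π ∈ I) (φ : T → T)
    (hφ : ∀ x y, algebraMap R T π * (x - y) ∣ φ x - φ y) : ∃ y, φ y = y := by
  let f : ℕ → T := fun k => φ^[k] 0
  have hstep : ∀ k, algebraMap R T π ^ k ∣ f (k + 1) - f k := by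
    intro k
    induction k with
    | zero => rw [pow_zero]; exact one_dvd _
    | succ k ih =>
      simp only [f, Function.iterate_succ_apply'] at ih ⊢
      rw [pow_succ']
      exact (mul_dvd_mul_left _ ih).trans (hφ _ _)
  have hmem : ∀ (k : ℕ) (t : T), algebraMap R T π ^ k ∣ t → t ∈ (I ^ k • ⊤ : Submodule R T) := by
    rintro k t ⟨z, rfl⟩
    rw [← map_pow, ← Algebra.smul_def]
    exact Submodule.smul_mem_smul (Ideal.pow_mem_pow hπ k) Submodule.mem_top
  have hcauchy : ∀ {m n : ℕ}, m ≤ n → f m ≡ f n [SMOD (I ^ m • ⊤ : Submodule R T)] := by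
    intro m n hmn
    induction n, hmn using Nat.le_induction with
    | base => rfl
    | succ n hmn ih =>
      refine ih.trans (SModEq.sub_mem.mpr ?_)
      rw [← neg_sub, neg_mem_iff]
      exact Submodule.smul_mono_left (Ideal.pow_le_pow_right hmn) (hmem n _ (hstep n))
  obtain ⟨L, hL⟩ := IsPrecomplete.prec inferInstance hcauchy
  refine ⟨L, sub_eq_zero.mp (IsHausdorff.haus (inferInstance : IsHausdorff I T) _ fun n => SModEq.zero.mpr ?_)⟩
  have h1 : φ L - L = (φ L - φ (f n)) + (f (n + 1) - f n) + (f n - L) := by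
    simp only [f, Function.iterate_succ_apply']
    ring
  rw [h1]
  refine add_mem (add_mem ?_ (hmem n _ (hstep n))) (SModEq.sub_mem.mp (hL n))
  obtain ⟨c, hc⟩ := hφ L (f n)
  have h2 : L - f n ∈ (I ^ n • ⊤ : Submodule R T) := by
    rw [← neg_sub, neg_mem_iff]
    exact SModEq.sub_mem.mp (hL n)
  rw [hc]
  have h3 : ∀ z ∈ (I ^ n • ⊤ : Submodule R T), ∀ t : T, t * z ∈ (I ^ n • ⊤ : Submodule R T) := by
    intro z hz t
    induction hz using Submodule.smul_induction_on' with
    | smul a ha w _ => rw [mul_smul_comm]; exact Submodule.smul_mem_smul ha Submodule.mem_top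
    | add a _ b _ ha hb => rw [mul_add]; exact add_mem ha hb
  rw [mul_right_comm]
  exact h3 _ h2 _

/-- `1 + π z` is a unit. -/
theorem isUnit_one_add (hπ : π ∈ I) (z : T) : IsUnit (1 + algebraMap R T π * z) := by
  obtain ⟨w, hw⟩ := exists_fixed (I := I) hπ (fun w => 1 - algebraMap R T π * z * w) fun x y => ⟨-z, by ring⟩
  exact IsUnit.of_mul_eq_one w (by linear_combination (-hw))

/-- Newton: a root exists as soon as `f(α)` is divisible by `π · f'(α)²`. -/
theorem exists_root (hπ : π ∈ I) (f : T[X]) (α : T)
    (h : algebraMap R T π * f.derivative.eval α ^ 2 ∣ f.eval α) : ∃ β, f.eval β = 0 := by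
  obtain ⟨a, ha⟩ := h
  set d := f.derivative.eval α
  set p := algebraMap R T π
  let Q := (taylor α f).divX.divX
  have hexp : ∀ z, f.eval (z + α) = f.eval α + z * (d + z * Q.eval z) := by
    intro z
    have h1 := X_mul_divX_add (taylor α f)
    have h2 := X_mul_divX_add (taylor α f).divX
    rw [coeff_divX, taylor_coeff_one] at h2
    rw [taylor_coeff_zero] at h1
    rw [← taylor_eval]
    conv_lhs => rw [← h1]
    rw [eval_add, eval_mul, eval_X, eval_C]
    conv_lhs => rw [← h2]
    rw [eval_add, eval_mul, eval_X, eval_C]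
    ring
  let P : T[X] := X ^ 2 * Q.comp (C (d * p) * X)
  obtain ⟨y, hy⟩ := exists_fixed (I := I) hπ (fun y => -a - p * P.eval y) fun x y => by
    obtain ⟨c, hc⟩ := sub_dvd_eval_sub x y P
    refine ⟨-c, ?_⟩
    linear_combination (-p) * hc
  refine ⟨d * p * y + α, ?_⟩
  rw [hexp, ha]
  have hy' : -a - p * (y ^ 2 * Q.eval (d * p * y)) = y := by
    have h2 : P.eval y = y ^ 2 * Q.eval (d * p * y) := by
      simp only [P, eval_mul, eval_pow, eval_X, eval_comp, eval_C]
    rw [← h2]; exact hy
  linear_combination (-(p * d ^ 2)) * hy'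

end Groth.L05.Krasner
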