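import Groth.Agent.L05.Krasner.Newton
import Groth.Agent.S0549
import Mathlib.FieldTheory.PrimitiveElement
import Mathlib.RingTheory.AdjoinRoot
import Mathlib.RingTheory.Localization.Integral
import Mathlib.RingTheory.DiscreteValuationRing.TFAE
import Mathlib.RingTheory.AdicCompletion.LocalRing
import Mathlib.RingTheory.TensorProduct.Maps
import Mathlib.Algebra.Polynomial.Eval.Irreducible

/-! # Finite separable extensions of the completion descend -/

set_option autoImplicit false
set_option linter.style.haveILetI false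

universe u

open Polynomial IsLocalRing TensorProduct

noncomputable section

namespace Groth.L05.Krasner

variable {H E : Type u} [CommRing H] [IsNoetherianRing H] [Field E] [Algebra H E]

/-- The complete subring generated by an integral element. -/
theorem isAdicComplete_adjoin (I : Ideal H) [IsAdicComplete I H] {x : E} (hx : IsIntegral H x) :
    IsAdicComplete I (Algebra.adjoin H ({x} : Set E)) := by
  haveI : Module.Finite H (Algebra.adjoin H ({x} : Set E)) :=
    Module.Finite.iff_fg.mpr hx.fg_adjoin_singleton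
  exact isAdicComplete_of_finite I _

theorem exists_root_of_close {I : Ideal H} [IsAdicComplete I H] {π : H} (hπ : π ∈ I)
    (g f a b : H[X]) (c : ℕ) (hab : a * g + b * derivative g = C (π ^ c)) (r : H[X])
    (hfg : f = g + C (π ^ (2 * c + 2)) * r)
    (x : E) (hx : IsIntegral H x) :
    (aeval x g = 0 → ∃ y ∈ Algebra.adjoin H ({x} : Set E), aeval y f = 0) ∧
    (aeval x f = 0 → ∃ y ∈ Algebra.adjoin H ({x} : Set E), aeval y g = 0) := by
  let T := Algebra.adjoin H ({x} : Set E)
  haveI : IsAdicComplete I T := isAdicComplete_adjoin I hx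
  let α : T := ⟨x, Algebra.self_mem_adjoin_singleton H x⟩
  set p := algebraMap H T π with hp
  have hzero : ∀ q : H[X], aeval x q = 0 → aeval α q = 0 := fun q hq =>
    Subtype.ext ((aeval_subalgebra_coe q T α).trans hq)
  have hwit : aeval α a * aeval α g + aeval α b * aeval α (derivative g) = p ^ c := by
    rw [← map_mul, ← map_mul, ← map_add, hab, aeval_C, map_pow]
  have hf : aeval α f = aeval α g + p ^ (2 * c + 2) * aeval α r := by
    rw [hfg, map_add, map_mul, aeval_C, map_pow]
  have hf' : aeval α (derivative f) = aeval α (derivative g) + p ^ (2 * c + 2) * aeval α (derivative r) := by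
    rw [hfg, derivative_add, derivative_C_mul, map_add, map_mul, aeval_C, map_pow]
  have key : ∀ q : H[X], (∃ s, aeval α q = p ^ (2 * c + 2) * s) → (∃ b' z, b' * aeval α (derivative q) = p ^ c * (1 + p * z)) →
      ∃ y ∈ T, aeval y q = 0 := by
    rintro q ⟨s, hs⟩ ⟨b', z, hz⟩
    obtain ⟨v, hv⟩ := (isUnit_one_add (I := I) hπ z).exists_left_inv
    have hd : ∃ e, (q.map (algebraMap H T)).derivative.eval α * e = p ^ c := by
      refine ⟨b' * v, ?_⟩
      rw [derivative_map, eval_map_algebraMap, ← mul_assoc, mul_comm _ b', hz, mul_assoc, mul_comm _ v, hv, mul_one]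
    obtain ⟨e, he⟩ := hd
    obtain ⟨y, hy⟩ := exists_root (I := I) hπ (q.map (algebraMap H T)) α (by
      refine ⟨p * e ^ 2 * s, ?_⟩
      rw [eval_map_algebraMap, hs, show p ^ (2 * c + 2) = p * p * (p ^ c) ^ 2 by ring, ← he]
      ring)
    rw [eval_map_algebraMap] at hy
    exact ⟨y, y.2, by rw [← aeval_subalgebra_coe, hy]; rfl⟩
  refine ⟨fun h => ?_, fun h => ?_⟩
  · have hg0 := hzero g h
    rw [hg0, mul_zero, zero_add] at hwit
    refine key f ⟨aeval α r, by rw [hf, hg0, zero_add]⟩
      ⟨aeval α b, p ^ (c + 1) * (aeval α b * aeval α (derivative r)), ?_⟩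
    rw [hf', mul_add, hwit]; ring
  · have hf0 := hzero f h
    rw [hf] at hf0
    have hg0 : aeval α g = p ^ (2 * c + 2) * (-aeval α r) := by linear_combination hf0
    refine key g ⟨-aeval α r, hg0⟩ ⟨aeval α b, p ^ (c + 1) * (aeval α a * aeval α r), ?_⟩
    rw [hg0] at hwit
    linear_combination hwit

/-- A monic polynomial over the completion is approximated by one over the ring. -/
theorem exists_monic_approx {A H : Type u} [CommRing A] [CommRing H] [Algebra A H] (J : Ideal H)
    (hs : ∀ h : H, ∃ a : A, h - algebraMap A H a ∈ J) (g : H[X]) (hg : g.Monic) :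
    ∃ f : A[X], f.Monic ∧ f.natDegree ≤ g.natDegree ∧
      ∀ i, (g - f.map (algebraMap A H)).coeff i ∈ J := by
  classical
  choose σ hσ using hs
  rcases subsingleton_or_nontrivial H with hH | hH
  · exact ⟨1, monic_one, by simp, fun i => by rw [Subsingleton.elim ((g - (1 : A[X]).map (algebraMap A H)).coeff i) 0]; exact zero_mem _⟩
  haveI : Nontrivial A := (algebraMap A H).domain_nontrivial
  let q : A[X] := ∑ i ∈ Finset.range g.natDegree, C (σ (g.coeff i)) * X ^ i
  have hq : q.degree < g.natDegree := by
    refine lt_of_le_of_lt (degree_sum_le _ _) ((Finset.sup_lt_iff (WithBot.bot_lt_coe _)).mpr fun i hi => ?_)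
    exact lt_of_le_of_lt (degree_C_mul_X_pow_le i _) (WithBot.coe_lt_coe.mpr (Finset.mem_range.mp hi))
  refine ⟨X ^ g.natDegree + q, monic_X_pow_add hq, ?_, fun i => ?_⟩
  · exact (natDegree_add_le _ _).trans (max_le (natDegree_X_pow_le _) (natDegree_le_of_degree_le hq.le))
  · rw [coeff_sub, coeff_map, coeff_add, coeff_X_pow, finset_sum_coeff, map_add, map_sum]
    simp only [coeff_C_mul, coeff_X_pow, mul_ite, mul_one, mul_zero, Finset.sum_ite_eq, Finset.mem_range]
    rcases lt_trichotomy i g.natDegree with hi | hi | hi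
    · simp only [hi.ne, hi, if_false, map_zero, zero_add]
      rw [Finset.sum_eq_single i (fun j _ hj => by simp [Ne.symm hj]) (by simp [hi]), if_pos rfl]
      exact hσ _
    · subst hi
      rw [Finset.sum_eq_zero (fun j hj => by simp [(Finset.mem_range.mp hj).ne']), if_pos rfl, map_one, add_zero,
        hg.coeff_natDegree, sub_self]
      exact zero_mem _
    · rw [Finset.sum_eq_zero (fun j hj => by simp [((Finset.mem_range.mp hj).trans hi).ne']),
        if_neg hi.ne', map_zero, coeff_eq_zero_of_natDegree_lt hi, add_zero, sub_self]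
      exact zero_mem _

theorem result (A K : Type u) [CommRing A] [IsDomain A] [IsDiscreteValuationRing A] [Field K] [Algebra A K]
    [IsFractionRing A K] (Kh : Type u) [Field Kh] [Algebra (AdicCompletion (maximalIdeal A) A) Kh]
    [IsFractionRing (AdicCompletion (maximalIdeal A) A) Kh] [Algebra A Kh] [Algebra K Kh]
    [IsScalarTower A (AdicCompletion (maximalIdeal A) A) Kh] [IsScalarTower A K Kh]
    (M : Type u) [Field M] [Algebra Kh M] [FiniteDimensional Kh M] [Algebra.IsSeparable Kh M] :
    ∃ (L : Type u) (_ : Field L) (_ : Algebra K L), FiniteDimensional K L ∧ Algebra.IsSeparable K L ∧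
      Nonempty ((Kh ⊗[K] L) ≃ₐ[Kh] M) := by
  classical
  obtain ⟨hdom, hdvr⟩ := (Groth.Agent.S0549.result A).mp ⟨inferInstance, inferInstance⟩
  haveI := hdom
  haveI := hdvr
  let H := AdicCompletion (maximalIdeal A) A
  letI : Algebra H M := ((algebraMap Kh M).comp (algebraMap H Kh)).toAlgebra
  haveI : IsScalarTower H Kh M := IsScalarTower.of_algebraMap_eq fun _ => rfl
  let I : Ideal H := (maximalIdeal A).map (algebraMap A H)
  haveI : IsAdicComplete (maximalIdeal H) H := inferInstance
  obtain ⟨π, hπ⟩ := IsDiscreteValuationRing.exists_irreducible H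
  have hπm : π ∈ maximalIdeal H := (mem_maximalIdeal _).mpr hπ.not_isUnit
  -- a primitive integral element
  obtain ⟨α₀, hα₀⟩ := Field.exists_primitive_element Kh M
  obtain ⟨⟨s, hs⟩, hsα⟩ := IsIntegral.exists_multiple_integral_of_isLocalization (nonZeroDivisors H) α₀
    (IsIntegral.of_finite Kh α₀)
  let α : M := algebraMap H M s * α₀
  have hα : IsIntegral H α := by simpa [α, Algebra.smul_def] using hsα
  have hs0 : algebraMap H Kh s ≠ 0 := (map_ne_zero_iff _ (IsFractionRing.injective H Kh)).mpr (nonZeroDivisors.ne_zero hs)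
  have hgen : IntermediateField.adjoin Kh {α} = ⊤ := by
    refine top_le_iff.mp (hα₀ ▸ IntermediateField.adjoin_simple_le_iff.mpr ?_)
    have h1 : α₀ = algebraMap Kh M (algebraMap H Kh s)⁻¹ * α := by
      show α₀ = algebraMap Kh M (algebraMap H Kh s)⁻¹ * (algebraMap Kh M (algebraMap H Kh s) * α₀)
      rw [← mul_assoc, ← map_mul, inv_mul_cancel₀ hs0, map_one, one_mul]
    rw [h1]
    exact mul_mem (IntermediateField.algebraMap_mem _ _) (IntermediateField.mem_adjoin_simple_self _ _)
  let g := minpoly H α
  have hg : g.Monic := minpoly.monic hα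
  have hgK : minpoly Kh α = g.map (algebraMap H Kh) := minpoly.isIntegrallyClosed_eq_field_fractions Kh M hα
  have hn : Module.finrank Kh M = g.natDegree := by
    rw [← IntermediateField.finrank_top' (F := Kh) (E := M), ← hgen,
      IntermediateField.adjoin.finrank (IsIntegral.of_finite Kh α), hgK, hg.natDegree_map]
  obtain ⟨a₀, b₀, hab₀⟩ : IsCoprime (g.map (algebraMap H Kh)) (derivative (g.map (algebraMap H Kh))) :=
    hgK ▸ (Algebra.IsSeparable.isSeparable Kh α)
  obtain ⟨sa, hsa⟩ := IsLocalization.integerNormalization_map_to_map (nonZeroDivisors H) a₀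
  obtain ⟨sb, hsb⟩ := IsLocalization.integerNormalization_map_to_map (nonZeroDivisors H) b₀
  obtain ⟨c, u, hu⟩ := IsDiscreteValuationRing.eq_unit_mul_pow_irreducible
    (nonZeroDivisors.ne_zero (sa * sb).2) hπ
  let a := C ((↑u⁻¹ : H) * sb) * IsLocalization.integerNormalization (nonZeroDivisors H) a₀
  let b := C ((↑u⁻¹ : H) * sa) * IsLocalization.integerNormalization (nonZeroDivisors H) b₀
  have hab : a * g + b * derivative g = C (π ^ c) := by
    apply map_injective (algebraMap H Kh) (IsFractionRing.injective H Kh)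
    simp only [a, b, Polynomial.map_add, Polynomial.map_mul, Polynomial.map_C, hsa, hsb, ← derivative_map,
      Polynomial.smul_C, Algebra.smul_def, Polynomial.algebraMap_apply, map_mul]
    have h1 : algebraMap H Kh (↑u⁻¹ : H) * (algebraMap H Kh sa * algebraMap H Kh sb) = algebraMap H Kh (π ^ c) := by
      rw [← map_mul, ← map_mul, ← Submonoid.coe_mul, hu, Units.inv_mul_cancel_left]
    rw [← h1, map_mul, map_mul]
    linear_combination (C (algebraMap H Kh (↑u⁻¹ : H)) * C (algebraMap H Kh sa) * C (algebraMap H Kh sb)) * hab₀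
  -- approximation
  have happrox : ∀ h : H, ∃ a : A, h - algebraMap A H a ∈ Ideal.span {π ^ (2 * c + 2)} := by
    intro h
    obtain ⟨a', ha'⟩ := Submodule.Quotient.mk_surjective _ (AdicCompletion.eval (maximalIdeal A) A (2 * c + 2) h)
    refine ⟨a', ?_⟩
    rw [← Ideal.span_singleton_pow, ← hπ.maximalIdeal_eq]
    have h1 : h - algebraMap A H a' ∈ (maximalIdeal A ^ (2 * c + 2) • ⊤ : Submodule A H) := by
      rw [AdicCompletion.pow_smul_top_eq_ker_eval (maximalIdeal A).fg_of_isNoetherianRing, LinearMap.mem_ker,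
        map_sub, sub_eq_zero, ← ha']
      rfl
    have h2 : (maximalIdeal A).map (algebraMap A H) ≤ maximalIdeal H :=
      AdicCompletion.maximalIdeal_eq_map.ge
    rw [Ideal.smul_top_eq_map, Submodule.restrictScalars_mem, Ideal.map_pow] at h1
    exact Ideal.pow_right_mono h2 _ h1
  obtain ⟨f, hf, hfdeg, hfc⟩ := exists_monic_approx _ happrox g hg
  obtain ⟨r, hr⟩ : C (π ^ (2 * c + 2)) ∣ f.map (algebraMap A H) - g := by
    rw [C_dvd_iff_dvd_coeff]
    intro i
    have h1 := Ideal.mem_span_singleton.mp (hfc i)
    rwa [← dvd_neg, ← coeff_neg, neg_sub] at h1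
  have hfg : f.map (algebraMap A H) = g + C (π ^ (2 * c + 2)) * r := by rw [← hr]; ring
  have hα0 : aeval α g = 0 := minpoly.aeval H α
  obtain ⟨β, -, hβ⟩ := (exists_root_of_close hπm g _ a b c hab r hfg α hα).1 hα0
  have hβi : IsIntegral H β := ⟨f.map (algebraMap A H), hf.map _, hβ⟩
  obtain ⟨γ, hγmem, hγ⟩ := (exists_root_of_close hπm g _ a b c hab r hfg β hβi).2 hβ
  -- the root generates
  have hγK : γ ∈ IntermediateField.adjoin Kh {β} :=
    (Algebra.adjoin_le (S := ((IntermediateField.adjoin Kh {β}).toSubalgebra.restrictScalars H))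
      (Set.singleton_subset_iff.mpr (IntermediateField.mem_adjoin_simple_self Kh β))) hγmem
  have hγmin : minpoly Kh γ = g.map (algebraMap H Kh) := by
    refine (minpoly.eq_of_irreducible_of_monic (hgK ▸ minpoly.irreducible (IsIntegral.of_finite Kh α)) ?_ (hg.map _)).symm
    rw [aeval_map_algebraMap]; exact hγ
  have hle : g.natDegree ≤ (minpoly Kh β).natDegree := by
    rw [← hg.natDegree_map (algebraMap H Kh), ← hγmin, ← IntermediateField.adjoin.finrank (IsIntegral.of_finite Kh γ),
      ← IntermediateField.adjoin.finrank (IsIntegral.of_finite Kh β)]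
    exact IntermediateField.finrank_le_of_le_right (IntermediateField.adjoin_simple_le_iff.mpr hγK)
  let fK := f.map (algebraMap A K)
  have hfKh : fK.map (algebraMap K Kh) = (f.map (algebraMap A H)).map (algebraMap H Kh) := by
    simp only [fK, Polynomial.map_map, ← IsScalarTower.algebraMap_eq]
  have hβK : aeval β (fK.map (algebraMap K Kh)) = 0 := by rw [hfKh, aeval_map_algebraMap]; exact hβ
  have hmin : minpoly Kh β = fK.map (algebraMap K Kh) := by
    refine (eq_of_monic_of_dvd_of_natDegree_le (minpoly.monic (IsIntegral.of_finite Kh β))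
      ((hf.map _).map _) (minpoly.dvd Kh β hβK) ?_).symm
    rw [(hf.map (algebraMap A K)).natDegree_map, hf.natDegree_map]
    exact hfdeg.trans hle
  have hfn : fK.natDegree = g.natDegree := by
    refine le_antisymm (by rw [hf.natDegree_map]; exact hfdeg) ?_
    rw [← (hf.map (algebraMap A K)).natDegree_map (algebraMap K Kh), ← hmin]
    exact hle
  haveI hirr : Fact (Irreducible fK) := ⟨Monic.irreducible_of_irreducible_map (algebraMap K Kh) fK (hf.map _)
    (hmin ▸ minpoly.irreducible (IsIntegral.of_finite Kh β))⟩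
  have hsep : fK.Separable := by
    rw [← Polynomial.separable_map (algebraMap K Kh), ← hmin]
    exact Algebra.IsSeparable.isSeparable Kh β
  let L := AdjoinRoot fK
  let pb := AdjoinRoot.powerBasis hirr.out.ne_zero
  haveI : FiniteDimensional K L := pb.finite
  haveI : Algebra.IsSeparable K L := by
    have hm : minpoly K (AdjoinRoot.root fK) = fK := by
      rw [AdjoinRoot.minpoly_root hirr.out.ne_zero, (hf.map _).leadingCoeff, inv_one, map_one, mul_one]
    have hs' : IsSeparable K (AdjoinRoot.root fK) := by rw [IsSeparable, hm]; exact hsep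
    haveI := (IntermediateField.isSeparable_adjoin_simple_iff_isSeparable K L).mpr hs'
    have htop : IntermediateField.adjoin K {AdjoinRoot.root fK} = ⊤ :=
      IntermediateField.adjoin_root_eq_top fK
    exact AlgEquiv.Algebra.isSeparable ((IntermediateField.equivOfEq htop).trans IntermediateField.topEquiv)
  letI : Algebra K M := ((algebraMap Kh M).comp (algebraMap K Kh)).toAlgebra
  haveI : IsScalarTower K Kh M := IsScalarTower.of_algebraMap_eq fun _ => rfl
  let φ : L →ₐ[K] M := AdjoinRoot.liftAlgHom fK (Algebra.ofId K M) β (by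
    rw [aeval_map_algebraMap] at hβK
    exact hβK)
  let Φ : Kh ⊗[K] L →ₐ[Kh] M :=
    Algebra.TensorProduct.lift (Algebra.ofId Kh M) φ fun _ _ => Commute.all _ _
  refine ⟨L, inferInstance, inferInstance, inferInstance, inferInstance, ⟨AlgEquiv.ofBijective Φ ?_⟩⟩
  have hd : Module.finrank Kh (Kh ⊗[K] L) = Module.finrank Kh M := by
    rw [Module.finrank_baseChange, hn, pb.finrank, AdjoinRoot.powerBasis_dim, hfn]
  have hsurj : Function.Surjective Φ := by
    rw [← AlgHom.range_eq_top, eq_top_iff]
    have htop : Algebra.adjoin Kh ({β} : Set M) = ⊤ := by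
      have h1 : IntermediateField.adjoin Kh {β} = ⊤ := by
        apply IntermediateField.eq_of_le_of_finrank_le le_top
        rw [IntermediateField.finrank_top', hn, IntermediateField.adjoin.finrank (IsIntegral.of_finite Kh β)]
        exact hle
      rw [← IntermediateField.adjoin_simple_toSubalgebra_of_isAlgebraic (Algebra.IsAlgebraic.isAlgebraic β), h1,
        IntermediateField.top_toSubalgebra]
    rw [← htop]
    exact Algebra.adjoin_le (Set.singleton_subset_iff.mpr ⟨1 ⊗ₜ AdjoinRoot.root fK, by
      show Φ (1 ⊗ₜ AdjoinRoot.root fK) = β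
      rw [Algebra.TensorProduct.lift_tmul, map_one, one_mul]
      exact AdjoinRoot.lift_root (by rw [aeval_map_algebraMap] at hβK; exact hβK)⟩)
  exact ⟨(LinearMap.injective_iff_surjective_of_finrank_eq_finrank (f := Φ.toLinearMap) hd).mpr hsurj, hsurj⟩

end Groth.L05.Krasner

end
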